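import Cfsg.Prelude.Def_CaseTheorems
import Cfsg.Agent.S4059
import Cfsg.Agent.S4060
import Cfsg.Agent.GroupBasics.Lift
import Cfsg.Agent.LocalStructure.Elements
import Cfsg.Agent.PLocal.Cores
import Cfsg.Agent.Solvable.Fitting
import Cfsg.Agent.Solvable.Nilpotent
import Cfsg.Agent.TwoGroupsQ.UniqueInvolution

/-!
# Solvable ambivalent groups with one class of involutions

* `normalizer_sylow_eq`: a Sylow 2-subgroup is self-normalizing.
* `involution_unique_of_core`: with trivial odd core there is only one involution.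
* `sylow_cases`: the Sylow 2-subgroups have order 2 or are generalized quaternion.
-/

set_option autoImplicit false
set_option linter.style.haveILetI false

namespace CfsgLib.Ambivalent

universe u

variable {G : Type u} [Group G] [Finite G]

/-- In a solvable ambivalent group Sylow 2-subgroups are self-normalizing. -/
theorem normalizer_sylow_eq [Group.IsSolvable G] (hamb : ∀ x : G, IsConj x x⁻¹) (S : Sylow 2 G) :
    Subgroup.normalizer ((S : Subgroup G) : Set G) = S := by
  haveI : Fact (Nat.Prime 2) := ⟨Nat.prime_two⟩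
  refine le_antisymm (fun x hx => ?_) Subgroup.le_normalizer
  obtain ⟨a, b, ⟨i, hi⟩, ⟨j, hj⟩, ⟨k, hak⟩, hb, rfl⟩ :=
    CfsgLib.LocalStructure.exists_pPart_mul (p := 2) x
  have haN : a ∈ Subgroup.normalizer ((S : Subgroup G) : Set G) := hi ▸ Subgroup.zpow_mem _ hx i
  have hbN : b ∈ Subgroup.normalizer ((S : Subgroup G) : Set G) := hj ▸ Subgroup.zpow_mem _ hx j
  have hb1 : b = 1 := by
    by_contra hne
    exact Cfsg.Agent.S4060.result S b hne (Nat.coprime_two_right.1 hb) hbN (hamb b)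
  have hp : IsPGroup 2 ((Subgroup.zpowers a ⊔ (S : Subgroup G)) : Subgroup G) :=
    IsPGroup.to_sup_of_normal_right' (IsPGroup.of_card (n := k) (by rw [Nat.card_zpowers, hak])) S.2
      (Subgroup.zpowers_le.2 haN)
  rw [hb1, mul_one]
  exact (S.3 hp le_sup_right) ▸ Subgroup.mem_sup_left (Subgroup.mem_zpowers a)

/-- Central involutions of a Sylow 2-subgroup coincide. -/
theorem central_involution_unique [Group.IsSolvable G] (hamb : ∀ x : G, IsConj x x⁻¹)
    (hone : ∀ s t : G, orderOf s = 2 → orderOf t = 2 → IsConj s t) (S : Sylow 2 G) {u v : G}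
    (hu : u ∈ Subgroup.centralizer ((S : Subgroup G) : Set G))
    (hv : v ∈ Subgroup.centralizer ((S : Subgroup G) : Set G))
    (hu2 : orderOf u = 2) (hv2 : orderOf v = 2) (hvS : u ∈ (S : Subgroup G)) : u = v := by
  haveI : Fact (Nat.Prime 2) := ⟨Nat.prime_two⟩
  obtain ⟨c, hc⟩ := isConj_iff.1 (hone u v hu2 hv2)
  obtain ⟨n, hn, hnv⟩ := S.conj_eq_normalizer_conj_of_mem_centralizer u c⁻¹ hu
    (by rw [inv_inv, hc]; exact hv)
  rw [inv_inv, hc] at hnv
  have hnS : n ∈ (S : Subgroup G) := normalizer_sylow_eq hamb S ▸ hn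
  rw [hnv, mul_assoc, ← Subgroup.mem_centralizer_iff.1 hu n hnS, inv_mul_cancel_left]

/-- With trivial odd core, a solvable ambivalent group with one class of involutions has a single
involution. -/
theorem involution_unique_of_core [Group.IsSolvable G] (hamb : ∀ x : G, IsConj x x⁻¹)
    (hone : ∀ s t : G, orderOf s = 2 → orderOf t = 2 → IsConj s t)
    (hcore : Cfsg.pPrimeCore 2 G = ⊥) {u v : G} (hu : orderOf u = 2) (hv : orderOf v = 2) : u = v := by
  classical
  haveI : Fact (Nat.Prime 2) := ⟨Nat.prime_two⟩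
  haveI : Nontrivial G := ⟨⟨u, 1, fun h => by rw [h, orderOf_one] at hu; omega⟩⟩
  -- the 2-core contains a central involution of a Sylow subgroup
  have hQne : Cfsg.pCore 2 G ≠ ⊥ := by
    intro h
    apply CfsgLib.Solvable.fittingSubgroup_ne_bot (G := G)
    rw [CfsgLib.Solvable.fittingSubgroup_eq_iSup, eq_bot_iff]
    refine iSup_le fun q => ?_
    obtain ⟨q, hq⟩ := q
    by_cases hq2 : q = 2
    · subst hq2; exact h.le
    rw [← hcore]
    haveI := CfsgLib.Solvable.pCore_normal (G := G) q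
    refine CfsgLib.PLocal.le_pPrimeCore ?_
    haveI : Fact q.Prime := ⟨hq⟩
    obtain ⟨n, hn⟩ := IsPGroup.iff_card.1 (CfsgLib.Solvable.isPGroup_pCore (G := G) q)
    rw [hn]
    exact ((Nat.coprime_primes hq Nat.prime_two).2 hq2).pow_left n
  set Q := Cfsg.pCore 2 G with hQ
  haveI hQn : Q.Normal := CfsgLib.Solvable.pCore_normal 2
  obtain ⟨S⟩ : Nonempty (Sylow 2 G) := inferInstance
  have hQS : Q ≤ (S : Subgroup G) := CfsgLib.Solvable.pCore_le_sylow S
  haveI : Group.IsNilpotent (S : Subgroup G) := S.2.isNilpotent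
  have hQ' : Q.subgroupOf (S : Subgroup G) ≠ ⊥ := fun h =>
    hQne (disjoint_self.1 ((Subgroup.subgroupOf_eq_bot.1 h).mono_right hQS))
  haveI : (Q.subgroupOf (S : Subgroup G)).Normal := hQn.subgroupOf _
  have hint := CfsgLib.Solvable.inf_center_ne_bot hQ'
  have hdvd : 2 ∣ Nat.card ((Q.subgroupOf (S : Subgroup G)) ⊓ Subgroup.center (S : Subgroup G) : Subgroup (S : Subgroup G)) := by
    obtain ⟨n, hn⟩ := IsPGroup.iff_card.1 (S.2.to_subgroup (Q.subgroupOf (S : Subgroup G) ⊓ Subgroup.center (S : Subgroup G)))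
    rw [hn]
    refine dvd_pow_self 2 fun h0 => hint (Subgroup.card_eq_one.1 ?_)
    rw [hn, h0, pow_zero]
  obtain ⟨⟨z₀, hz₀⟩, hz⟩ := exists_prime_orderOf_dvd_card' 2 hdvd
  rw [Subgroup.orderOf_mk] at hz
  obtain ⟨hzQ, hzc⟩ := Subgroup.mem_inf.1 hz₀
  rw [Subgroup.mem_subgroupOf] at hzQ
  have hz2 : orderOf (z₀ : G) = 2 := by rw [Subgroup.orderOf_coe, hz]
  have hzS : ∀ s ∈ (S : Subgroup G), s * (z₀ : G) = z₀ * s := fun s hs =>
    congrArg Subtype.val (Subgroup.mem_center_iff.1 hzc ⟨s, hs⟩)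
  set z : G := (z₀ : G) with hzdef
  -- all involutions are central elements of Q
  have hinvQ : ∀ w : G, orderOf w = 2 → w ∈ Q ∧ ∀ y ∈ Q, y * w = w * y := by
    intro w hw
    obtain ⟨c, hc⟩ := isConj_iff.1 (hone z w hz2 hw)
    refine ⟨hc ▸ hQn.conj_mem z hzQ c, fun y hy => ?_⟩
    have hy' : c⁻¹ * y * c ∈ Q := hQn.conj_mem' y hy c
    calc y * w = c * ((c⁻¹ * y * c) * z) * c⁻¹ := by rw [← hc]; group
      _ = c * (z * (c⁻¹ * y * c)) * c⁻¹ := by rw [hzS _ (hQS hy')]
      _ = w * y := by rw [← hc]; group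
  let V : Subgroup G :=
    { carrier := {x | x ^ 2 = 1}
      one_mem' := one_pow 2
      mul_mem' := fun {a b} ha hb => by
        rcases eq_or_ne a 1 with rfl | ha1
        · simpa using hb
        rcases eq_or_ne b 1 with rfl | hb1
        · simpa using ha
        have hc : Commute a b := ((hinvQ b (orderOf_eq_prime hb hb1)).2 a (hinvQ a (orderOf_eq_prime ha ha1)).1)
        show (a * b) ^ 2 = 1
        rw [hc.mul_pow, show a ^ 2 = 1 from ha, show b ^ 2 = 1 from hb, one_mul]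
      inv_mem' := fun {a} ha => by
        show a⁻¹ ^ 2 = 1
        rw [inv_pow, show a ^ 2 = 1 from ha, inv_one] }
  have hVmem : ∀ {x : G}, x ∈ V → x ≠ 1 → orderOf x = 2 := fun hx hx1 => orderOf_eq_prime hx hx1
  have hmemV : ∀ {x : G}, orderOf x = 2 → x ∈ V := fun {x} hx => by
    show x ^ 2 = 1
    rw [← hx, pow_orderOf_eq_one]
  haveI hVn : V.Normal := ⟨fun x (hx : x ^ 2 = 1) g => by
    show (g * x * g⁻¹) ^ 2 = 1
    rw [conj_pow, hx]; group⟩
  set W := Subgroup.centralizer (V : Set G) with hW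
  have hfinish : (S : Subgroup G) ≤ W → u = v := by
    intro hSW
    have hcent : ∀ w : G, orderOf w = 2 → w ∈ Subgroup.centralizer ((S : Subgroup G) : Set G) :=
      fun w hw => Subgroup.mem_centralizer_iff.2 fun s hs =>
        (Subgroup.mem_centralizer_iff.1 (hSW hs) w (hmemV hw)).symm
    exact central_involution_unique hamb hone S (hcent u hu) (hcent v hv) hu hv (hQS (hinvQ u hu).1)
  -- show that `G ⧸ W` has odd order
  by_cases hodd : 2 ∣ Nat.card (G ⧸ W)
  swap
  · apply hfinish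
    intro s hs
    rw [← QuotientGroup.eq_one_iff, ← orderOf_eq_one_iff]
    obtain ⟨k, hk⟩ := S.2 ⟨s, hs⟩
    have hk' : s ^ 2 ^ k = 1 := congrArg Subtype.val hk
    refine Nat.eq_one_of_dvd_coprimes ((Nat.prime_two.coprime_iff_not_dvd.2 hodd).pow_left k) ?_
      (orderOf_dvd_natCard _)
    exact orderOf_dvd_of_pow_eq_one (by rw [← QuotientGroup.mk_pow, hk', QuotientGroup.mk_one])
  exfalso
  haveI : Nontrivial (G ⧸ W) := Finite.one_lt_card_iff_nontrivial.1
    (Nat.lt_of_lt_of_le one_lt_two (Nat.le_of_dvd Nat.card_pos hodd))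
  obtain ⟨Ab, hAbn, hAbne, hAbmin⟩ := CfsgLib.Solvable.exists_minimal_normal (G := G ⧸ W)
  haveI := hAbn
  obtain ⟨q, hq, hAbq⟩ := CfsgLib.Solvable.exists_isPGroup_of_minimal_normal hAbne hAbmin
  haveI : Fact q.Prime := ⟨hq⟩
  set f := QuotientGroup.mk' W with hf
  set A := Ab.comap f with hA
  haveI : A.Normal := hAbn.comap f
  have hCA : V ⊓ Subgroup.centralizer (A : Set G) = ⊥ := by
    by_contra hne
    obtain ⟨⟨w, hw⟩, hw1⟩ := Subgroup.ne_bot_iff_exists_ne_one.1 hne
    obtain ⟨hwV, hwA⟩ := Subgroup.mem_inf.1 hw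
    have hAW : A ≤ W := by
      intro a ha
      rw [hW, Subgroup.mem_centralizer_iff]
      intro x hx
      rcases eq_or_ne x 1 with rfl | hx1
      · simp
      obtain ⟨c, hc⟩ := isConj_iff.1 (hone w x (hVmem hwV fun h => hw1 (Subtype.ext h)) (hVmem hx hx1))
      have ha' : c⁻¹ * a * c ∈ A := Subgroup.Normal.conj_mem' inferInstance a ha c
      calc x * a = c * (w * (c⁻¹ * a * c)) * c⁻¹ := by rw [← hc]; group
        _ = c * ((c⁻¹ * a * c) * w) * c⁻¹ := by rw [Subgroup.mem_centralizer_iff.1 hwA _ ha']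
        _ = a * x := by rw [← hc]; group
    apply hAbne
    rw [← Subgroup.map_comap_eq_self_of_surjective (QuotientGroup.mk'_surjective W) Ab, eq_bot_iff]
    rintro _ ⟨a, ha, rfl⟩
    exact Subgroup.mem_bot.2 ((QuotientGroup.eq_one_iff a).2 (hAW ha))
  obtain ⟨R⟩ : Nonempty (Sylow q A) := inferInstance
  set R' : Subgroup G := (R : Subgroup A).map A.subtype with hR'
  have hR'q : IsPGroup q R' := R.2.map _
  have hAR : A ≤ R' ⊔ W := by
    intro a ha
    let g : A →* Ab := f.subgroupComap Ab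
    have hg : Function.Surjective g := f.subgroupComap_surjective_of_surjective Ab (QuotientGroup.mk'_surjective W)
    have htop : ((R.mapSurjective hg : Sylow q Ab) : Subgroup Ab) = ⊤ :=
      ((R.mapSurjective hg).3 (hAbq.to_subgroup ⊤) le_top).symm
    have : g ⟨a, ha⟩ ∈ (R : Subgroup A).map g := by
      rw [← Sylow.coe_mapSurjective hg, htop]
      exact Subgroup.mem_top _
    obtain ⟨r, hr, hra⟩ := this
    have hmem : (r : G)⁻¹ * a ∈ W := QuotientGroup.eq.1 (congrArg Subtype.val hra)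
    have := Subgroup.mul_mem_sup (S := R') (T := W) ⟨r, hr, rfl⟩ hmem
    rwa [Subgroup.coe_subtype, mul_inv_cancel_left] at this
  have hVR : ∀ x ∈ V, x ∈ Subgroup.centralizer (R' : Set G) → x = 1 := by
    intro x hxV hxR
    rw [← Subgroup.mem_bot, ← hCA]
    refine Subgroup.mem_inf.2 ⟨hxV, Subgroup.mem_centralizer_iff.2 fun a ha => ?_⟩
    have h1 : R' ⊔ W ≤ Subgroup.centralizer ({x} : Set G) := sup_le
      (fun r hr => Subgroup.mem_centralizer_singleton_iff.2 (Subgroup.mem_centralizer_iff.1 hxR r hr))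
      (fun r hr => Subgroup.mem_centralizer_singleton_iff.2 (Subgroup.mem_centralizer_iff.1 hr x hxV).symm)
    exact Subgroup.mem_centralizer_singleton_iff.1 (h1 (hAR ha))
  by_cases hq2 : q = 2
  · -- a 2-group fixes a central involution of a Sylow subgroup
    subst hq2
    obtain ⟨T, hT⟩ := hR'q.exists_le_sylow
    obtain ⟨c, hc⟩ := MulAction.exists_smul_eq G S T
    have hne1 : z ≠ 1 := fun h => by rw [h, orderOf_one] at hz2; omega
    have hzV : c * z * c⁻¹ ∈ V := hVn.conj_mem _ (hmemV hz2) c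
    refine hne1 ?_
    have := hVR _ hzV (Subgroup.mem_centralizer_iff.2 fun r hr => by
      have hr' := hT hr
      rw [← hc, Sylow.coe_subgroup_smul, Subgroup.mem_pointwise_smul_iff_inv_smul_mem] at hr'
      have hr'' : c⁻¹ * r * c ∈ (S : Subgroup G) := by simpa [MulAut.smul_def, mul_assoc] using hr'
      calc r * (c * z * c⁻¹) = c * ((c⁻¹ * r * c) * z) * c⁻¹ := by group
        _ = c * (z * (c⁻¹ * r * c)) * c⁻¹ := by rw [hzS _ hr'']
        _ = _ := by group)
    have h2 := congrArg (fun t => c⁻¹ * t * c) this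
    simpa [mul_assoc] using h2
  · -- an involution normalizes R
    have hfr := Sylow.normalizer_sup_eq_top R
    have hmap : (Subgroup.normalizer (R' : Set G)).map f = ⊤ := by
      rw [eq_top_iff, ← Subgroup.map_top_of_surjective f (QuotientGroup.mk'_surjective W), ← hfr,
        Subgroup.map_sup]
      refine sup_le le_rfl ?_
      rintro _ ⟨a, ha, rfl⟩
      have h1 : f a ∈ (R' ⊔ W).map f := Subgroup.mem_map_of_mem f (hAR ha)
      rw [Subgroup.map_sup, QuotientGroup.map_mk'_self, sup_bot_eq] at h1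
      exact Subgroup.map_mono Subgroup.le_normalizer h1
    have hdN : 2 ∣ Nat.card (Subgroup.normalizer (R' : Set G)) := by
      refine hodd.trans ?_
      rw [← Subgroup.card_top (G := G ⧸ W), ← hmap]
      exact Subgroup.card_map_dvd _ _
    obtain ⟨⟨x, hxN⟩, hx⟩ := exists_prime_orderOf_dvd_card' 2 hdN
    rw [Subgroup.orderOf_mk] at hx
    have hx1 : x ≠ 1 := fun h => by rw [h, orderOf_one] at hx; omega
    refine hx1 (hVR x (hmemV hx) (Subgroup.mem_centralizer_iff.2 fun r hr => ?_))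
    have h1 : x * r * x⁻¹ * r⁻¹ ∈ R' :=
      R'.mul_mem ((Subgroup.mem_normalizer_iff.1 hxN r).1 hr) (R'.inv_mem hr)
    have h2 : x * r * x⁻¹ * r⁻¹ ∈ Q := by
      rw [show x * r * x⁻¹ * r⁻¹ = x * (r * x⁻¹ * r⁻¹) by group]
      exact Q.mul_mem (hinvQ x hx).1 (hQn.conj_mem _ (Q.inv_mem (hinvQ x hx).1) r)
    have h3 : x * r * x⁻¹ * r⁻¹ = 1 := by
      obtain ⟨m, hm⟩ := IsPGroup.iff_card.1 hR'q
      obtain ⟨n, hn⟩ := IsPGroup.iff_card.1 (CfsgLib.Solvable.isPGroup_pCore (G := G) 2)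
      exact orderOf_eq_one_iff.1 (Nat.eq_one_of_dvd_coprimes
        (((Nat.coprime_primes hq Nat.prime_two).2 hq2).pow m n)
        (hm ▸ Subgroup.orderOf_dvd_natCard R' h1) (hn ▸ Subgroup.orderOf_dvd_natCard _ h2))
    exact (mul_inv_eq_iff_eq_mul.1 (mul_inv_eq_one.1 h3)).symm

/-- Elements with 2-power order lift through the odd core with the same order. -/
theorem exists_lift_two {y : G ⧸ Cfsg.pPrimeCore 2 G} {k : ℕ} (hy : orderOf y = 2 ^ k) :
    ∃ x : G, (x : G ⧸ Cfsg.pPrimeCore 2 G) = y ∧ orderOf x = 2 ^ k := by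
  obtain ⟨x, hx, hxo⟩ := CfsgLib.GroupBasics.exists_lift_orderOf_eq y
    (hy ▸ (CfsgLib.PLocal.coprime_card_pPrimeCore 2 G).pow_right k)
  exact ⟨x, hx, hxo.trans hy⟩

/-- The hypotheses pass to the quotient by the odd core. -/
theorem quotient_hyps (hamb : ∀ x : G, IsConj x x⁻¹)
    (hone : ∀ s t : G, orderOf s = 2 → orderOf t = 2 → IsConj s t) :
    (∀ x : G ⧸ Cfsg.pPrimeCore 2 G, IsConj x x⁻¹) ∧
      ∀ s t : G ⧸ Cfsg.pPrimeCore 2 G, orderOf s = 2 → orderOf t = 2 → IsConj s t := by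
  refine ⟨fun x => ?_, fun s t hs ht => ?_⟩
  · obtain ⟨g, rfl⟩ := QuotientGroup.mk_surjective x
    rw [← QuotientGroup.mk_inv]
    exact (QuotientGroup.mk' (Cfsg.pPrimeCore 2 G)).map_isConj (hamb g)
  · obtain ⟨a, rfl, ha⟩ := exists_lift_two (k := 1) (by rw [hs, pow_one])
    obtain ⟨b, rfl, hb⟩ := exists_lift_two (k := 1) (by rw [ht, pow_one])
    exact (QuotientGroup.mk' (Cfsg.pPrimeCore 2 G)).map_isConj (hone a b (by simpa using ha) (by simpa using hb))

/-- The Sylow 2-subgroups have order two or are generalized quaternion. -/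
theorem sylow_cases [Group.IsSolvable G] (hamb : ∀ x : G, IsConj x x⁻¹)
    (hone : ∀ s t : G, orderOf s = 2 → orderOf t = 2 → IsConj s t) (heven : 2 ∣ Nat.card G)
    (S : Sylow 2 G) :
    Nat.card S = 2 ∨ ∃ n : ℕ, Nonempty ((S : Subgroup G) ≃* QuaternionGroup (2 ^ (n + 1))) := by
  haveI : Fact (Nat.Prime 2) := ⟨Nat.prime_two⟩
  obtain ⟨hamb', hone'⟩ := quotient_hyps hamb hone
  have hcore := CfsgLib.PLocal.pPrimeCore_quotient_pPrimeCore_eq_bot 2 G
  have hinj : ∀ x : G, x ∈ (S : Subgroup G) → (x : G ⧸ Cfsg.pPrimeCore 2 G) = 1 → x = 1 := fun x hx h => by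
    obtain ⟨n, hn⟩ := IsPGroup.iff_card.1 S.2
    exact orderOf_eq_one_iff.1 (Nat.eq_one_of_dvd_coprimes
      ((CfsgLib.PLocal.coprime_card_pPrimeCore 2 G).pow_right n)
      (Subgroup.orderOf_dvd_natCard _ ((QuotientGroup.eq_one_iff x).1 h))
      (hn ▸ Subgroup.orderOf_dvd_natCard _ hx))
  have huniq : CfsgLib.TwoGroupsQ.HasUniqueOrderP (S : Subgroup G) 2 := by
    refine CfsgLib.TwoGroupsQ.hasUniqueOrderP_two fun x y hx hx1 hy hy1 => ?_
    have hord : ∀ t : (S : Subgroup G), t ^ 2 = 1 → t ≠ 1 →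
        orderOf ((t : G) : G ⧸ Cfsg.pPrimeCore 2 G) = 2 := fun t ht ht1 =>
      orderOf_eq_prime (by rw [← QuotientGroup.mk_pow, ← SubmonoidClass.coe_pow, ht]; simp)
        (fun h => ht1 (Subtype.ext (hinj t t.2 h)))
    have h := involution_unique_of_core hamb' hone' hcore (hord x hx hx1) (hord y hy hy1)
    apply Subtype.ext
    have h2 := hinj ((x : G)⁻¹ * y) ((x⁻¹ * y).2) (by rw [QuotientGroup.mk_mul, QuotientGroup.mk_inv, h, inv_mul_cancel])
    exact inv_mul_eq_one.1 h2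
  rcases CfsgLib.TwoGroupsQ.isCyclic_or_quaternion S.2 huniq with hcyc | ⟨-, m, hm, he⟩
  · left
    obtain ⟨⟨a, ha⟩, hgen⟩ := hcyc.exists_generator
    haveI := hcyc.isMulCommutative
    have hac : a ∈ Subgroup.centralizer ((S : Subgroup G) : Set G) := Subgroup.mem_centralizer_iff.2
      fun s hs => congrArg Subtype.val (mul_comm' (⟨s, hs⟩ : (S : Subgroup G)) ⟨a, ha⟩)
    have hcard : Nat.card S = orderOf a := by
      rw [← Subgroup.orderOf_mk a ha]
      exact (orderOf_eq_card_of_forall_mem_zpowers hgen).symm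
    have ha1 : a ≠ 1 := fun h => by
      have h2 := S.ne_bot_of_dvd_card heven
      apply h2
      rw [← Subgroup.card_eq_one]
      show Nat.card S = 1
      rw [hcard, h, orderOf_one]
    rw [hcard, (Cfsg.Agent.S4059.result hamb).1 S a hac ha1]
  · exact Or.inr ⟨m - 1, by rwa [Nat.sub_add_cancel hm]⟩

end CfsgLib.Ambivalent
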